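import Mathlib
import Groth.Agent.AWNLib.Scheme

/-!
# The perfection of a ring in which `p = 0`
-/

set_option autoImplicit false

universe u

open CategoryTheory AlgebraicGeometry

namespace Groth.Agent.PerfectionLib

variable {p : ℕ}

/-- A ring with `p = 0` and bijective `p`-th power map. -/
def IsPerfRing (p : ℕ) (S : Type u) [CommRing S] : Prop :=
  (p : S) = 0 ∧ Function.Bijective fun s : S => s ^ p

theorem IsPerfRing.pow_bij {S : Type u} [CommRing S] (h : IsPerfRing p S) (n : ℕ) :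
    Function.Bijective fun s : S => s ^ p ^ n := by
  rw [show (fun s : S => s ^ p ^ n) = (fun s : S => s ^ p)^[n] from (pow_iterate p n).symm]
  exact h.2.iterate n

theorem IsPerfRing.isReduced [Fact p.Prime] {S : Type u} [CommRing S] (h : IsPerfRing p S) : IsReduced S := by
  refine ⟨fun x ⟨n, hn⟩ => (h.pow_bij n).1 ?_⟩
  change x ^ p ^ n = 0 ^ p ^ n
  rw [zero_pow (pow_ne_zero _ (Fact.out : p.Prime).ne_zero),
    pow_eq_zero_of_le (Nat.lt_pow_self (Fact.out : p.Prime).one_lt).le hn]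

theorem charP_pow_add [Fact p.Prime] {S : Type u} [CommRing S] (hp : (p : S) = 0) (x y : S) (n : ℕ) :
    (x + y) ^ p ^ n = x ^ p ^ n + y ^ p ^ n := by
  rcases subsingleton_or_nontrivial S with hS | hS
  · exact Subsingleton.elim _ _
  · have : CharP S p := (CharP.charP_iff_prime_eq_zero Fact.out).2 hp
    exact add_pow_char_pow ..

theorem charP_pow_sub [Fact p.Prime] {S : Type u} [CommRing S] (hp : (p : S) = 0) (x y : S) (n : ℕ) :
    (x - y) ^ p ^ n = x ^ p ^ n - y ^ p ^ n := by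
  rw [eq_sub_iff_add_eq, ← charP_pow_add hp, sub_add_cancel]

theorem IsPerfRing.of_ringEquiv {S T : Type u} [CommRing S] [CommRing T] (e : S ≃+* T) (h : IsPerfRing p S) :
    IsPerfRing p T := by
  refine ⟨by rw [← map_natCast e, h.1, map_zero], fun x y hxy => ?_, fun y => ?_⟩
  · apply e.symm.injective
    apply h.2.1
    simpa using congrArg e.symm hxy
  · obtain ⟨x, hx⟩ := h.2.2 (e.symm y)
    exact ⟨e x, by simpa using congrArg e hx⟩

/-- `κ` exhibits `S` as the perfection of `R`. -/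
structure IsPC (p : ℕ) {R S : Type u} [CommRing R] [CommRing S] (κ : R →+* S) : Prop where
  perf : IsPerfRing p S
  surj : ∀ s : S, ∃ (n : ℕ) (a : R), κ a = s ^ p ^ n
  ker : ∀ a : R, κ a = 0 → ∃ n : ℕ, a ^ p ^ n = 0

variable [Fact p.Prime]

theorem exists_isPC {R : Type u} [CommRing R] (hR : (p : R) = 0) :
    ∃ (S : CommRingCat.{u}) (κ : R →+* S), IsPC p κ := by
  rcases subsingleton_or_nontrivial R with hS | hS
  · exact ⟨.of R, RingHom.id R, ⟨hR, fun _ _ _ => Subsingleton.elim _ _, fun y => ⟨y, Subsingleton.elim _ _⟩⟩,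
      fun s => ⟨0, s, Subsingleton.elim _ _⟩, fun a _ => ⟨0, Subsingleton.elim _ _⟩⟩
  · have : CharP R p := (CharP.charP_iff_prime_eq_zero Fact.out).2 hR
    refine ⟨.of (PerfectClosure R p), PerfectClosure.of R p,
      ⟨CharP.cast_eq_zero _ p, bijective_frobenius (PerfectClosure R p) p⟩, fun s => ?_, fun a ha => ?_⟩
    · obtain ⟨⟨n, a⟩, rfl⟩ := PerfectClosure.mk_surjective R p s
      refine ⟨n, a, ?_⟩
      have := PerfectClosure.iterate_frobenius_mk R p n a
      rw [iterate_frobenius] at this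
      exact this.symm
    · rw [PerfectClosure.of_apply, PerfectClosure.zero_def, PerfectClosure.mk_eq_iff] at ha
      obtain ⟨n, hn⟩ := ha
      refine ⟨n, ?_⟩
      simpa [iterate_frobenius, zero_pow (pow_ne_zero _ (Fact.out : p.Prime).ne_zero)] using hn

theorem IsPC.hom_ext {R S T : Type u} [CommRing R] [CommRing S] [CommRing T] {κ : R →+* S} (h : IsPC p κ)
    (hT : IsReduced T) (hp : (p : T) = 0) {g₁ g₂ : S →+* T} (e : g₁.comp κ = g₂.comp κ) : g₁ = g₂ := by
  refine RingHom.ext fun s => sub_eq_zero.1 (IsReduced.eq_zero _ ?_)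
  obtain ⟨n, a, ha⟩ := h.surj s
  refine ⟨p ^ n, ?_⟩
  rw [charP_pow_sub hp, ← map_pow, ← map_pow, ← ha, sub_eq_zero]
  exact RingHom.congr_fun e a

theorem IsPC.exists_lift {R S T : Type u} [CommRing R] [CommRing S] [CommRing T] {κ : R →+* S} (h : IsPC p κ)
    (hT : IsPerfRing p T) (f : R →+* T) : ∃ g : S →+* T, g.comp κ = f := by
  have hred := hT.isReduced
  have indep : ∀ (s : S) (n m : ℕ) (a b : R) (x y : T), κ a = s ^ p ^ n → κ b = s ^ p ^ m →
      x ^ p ^ n = f a → y ^ p ^ m = f b → x = y := by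
    intro s n m a b x y ha hb hx hy
    obtain ⟨j, hj⟩ := h.ker (a ^ p ^ m - b ^ p ^ n) (by
      rw [map_sub, map_pow, map_pow, ha, hb, ← pow_mul, ← pow_mul, mul_comm, sub_self])
    have h1 : f a ^ p ^ m = f b ^ p ^ n := by
      rw [← sub_eq_zero, ← map_pow, ← map_pow, ← map_sub]
      exact IsReduced.eq_zero _ ⟨p ^ j, by rw [← map_pow, hj, map_zero]⟩
    rw [← hx, ← hy, ← pow_mul, ← pow_mul, ← pow_add, ← pow_add, add_comm m n] at h1
    exact (hT.pow_bij _).1 h1
  choose n a ha using h.surj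
  choose g hg using fun s => (hT.pow_bij (n s)).2 (f (a s))
  have key : ∀ (s : S) (m : ℕ) (b : R), κ b = s ^ p ^ m → g s ^ p ^ m = f b := by
    intro s m b hb
    obtain ⟨y, hy⟩ := (hT.pow_bij m).2 (f b)
    rw [indep s (n s) m (a s) b (g s) y (ha s) hb (hg s) hy]
    exact hy
  refine ⟨⟨⟨⟨g, ?_⟩, fun x y => ?_⟩, ?_, fun x y => ?_⟩, ?_⟩
  · have := key 1 0 1 (by simp)
    simpa using this
  · apply (hT.pow_bij (n x + n y)).1
    change g (x * y) ^ p ^ (n x + n y) = (g x * g y) ^ p ^ (n x + n y)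
    have h1 := key x (n x + n y) (a x ^ p ^ n y) (by rw [map_pow, ha, ← pow_mul, ← pow_add])
    have h2 := key y (n x + n y) (a y ^ p ^ n x) (by rw [map_pow, ha, ← pow_mul, ← pow_add, add_comm])
    rw [mul_pow, h1, h2, ← map_mul]
    exact key _ _ _ (by rw [map_mul, map_pow, map_pow, ha, ha, mul_pow, ← pow_mul, ← pow_mul, ← pow_add, ← pow_add, add_comm (n y) (n x)])
  · have := key 0 0 0 (by simp)
    simpa using this
  · apply (hT.pow_bij (n x + n y)).1
    change g (x + y) ^ p ^ (n x + n y) = (g x + g y) ^ p ^ (n x + n y)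
    have h1 := key x (n x + n y) (a x ^ p ^ n y) (by rw [map_pow, ha, ← pow_mul, ← pow_add])
    have h2 := key y (n x + n y) (a y ^ p ^ n x) (by rw [map_pow, ha, ← pow_mul, ← pow_add, add_comm])
    rw [charP_pow_add hT.1, h1, h2, ← map_add]
    exact key _ _ _ (by rw [map_add, map_pow, map_pow, ha, ha, charP_pow_add h.perf.1, ← pow_mul, ← pow_mul, ← pow_add, ← pow_add, add_comm (n y) (n x)])
  · refine RingHom.ext fun r => ?_
    have := key (κ r) 0 r (by simp)
    simpa using this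

theorem IsPC.of_ringEquiv {R S S' : Type u} [CommRing R] [CommRing S] [CommRing S'] {κ : R →+* S}
    (h : IsPC p κ) (e : S ≃+* S') : IsPC p (e.toRingHom.comp κ) where
  perf := h.perf.of_ringEquiv e
  surj s := by
    obtain ⟨n, a, ha⟩ := h.surj (e.symm s)
    exact ⟨n, a, by simpa using congrArg e ha⟩
  ker a ha := h.ker a (e.injective (by simpa using ha))

theorem IsPC.bijective_of_perf {R S : Type u} [CommRing R] [CommRing S] {κ : R →+* S} (h : IsPC p κ)
    (hR : IsPerfRing p R) : Function.Bijective κ := by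
  refine ⟨(injective_iff_map_eq_zero κ).2 fun a ha => ?_, fun s => ?_⟩
  · obtain ⟨n, hn⟩ := h.ker a ha
    exact hR.isReduced.eq_zero a ⟨_, hn⟩
  · obtain ⟨n, a, ha⟩ := h.surj s
    obtain ⟨b, rfl⟩ := (hR.pow_bij n).2 a
    exact ⟨b, (h.perf.pow_bij n).1 (by simpa using ha)⟩

theorem IsPC.univHomeo {R S : Type u} [CommRing R] [CommRing S] {κ : R →+* S} (h : IsPC p κ) :
    FlatMor.IsUnivHomeo (Spec.map (CommRingCat.ofHom κ)) := by
  rw [AWNLib.univHomeo_iff]
  have hint : κ.IsIntegral := by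
    intro s
    obtain ⟨n, a, ha⟩ := h.surj s
    let := κ.toAlgebra
    exact IsIntegral.of_pow (R := R) (pow_pos (Fact.out : p.Prime).pos n)
      (ha ▸ (isIntegral_algebraMap : IsIntegral R (algebraMap R S a)))
  refine ⟨hint, fun q => ?_, fun K _ g₁ g₂ e => ?_⟩
  · let := κ.toAlgebra
    have : Algebra.IsIntegral R S := ⟨hint⟩
    obtain ⟨Q, -, hQ, hQ2⟩ := Ideal.exists_ideal_over_prime_of_isIntegral (R := R) q.asIdeal
      (⊥ : Ideal S) (fun a ha => by
        have ha' : κ a = 0 := ha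
        obtain ⟨n, hn⟩ := h.ker a ha'
        exact q.2.mem_of_pow_mem _ (by rw [hn]; exact q.asIdeal.zero_mem))
    exact ⟨⟨Q, hQ⟩, PrimeSpectrum.ext hQ2⟩
  · exact h.hom_ext inferInstance (by rw [← map_natCast g₁, h.perf.1, map_zero]) e

theorem IsPC.localization {R S : Type u} [CommRing R] [CommRing S] {κ : R →+* S} (h : IsPC p κ) (r : R)
    {Rr Sr : Type u} [CommRing Rr] [CommRing Sr] [Algebra R Rr] [IsLocalization.Away r Rr]
    [Algebra S Sr] [IsLocalization.Away (κ r) Sr] (κ' : Rr →+* Sr)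
    (hc : κ'.comp (algebraMap R Rr) = (algebraMap S Sr).comp κ) : IsPC p κ' := by
  have hred := h.perf.isReduced
  have hredr : IsReduced Sr := isReduced_localizationPreserves (Submonoid.powers (κ r)) Sr inferInstance
  have hp : (p : Sr) = 0 := by rw [← map_natCast (algebraMap S Sr), h.perf.1, map_zero]
  have hpe : p - 1 + 1 = p := Nat.succ_pred_eq_of_pos (Fact.out : p.Prime).pos
  have hc' : ∀ x, κ' (algebraMap R Rr x) = algebraMap S Sr (κ x) := RingHom.congr_fun hc
  refine ⟨⟨hp, fun x y hxy => ?_, fun y => ?_⟩, fun y => ?_, fun a ha => ?_⟩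
  · refine sub_eq_zero.1 (IsReduced.eq_zero _ ⟨p ^ 1, ?_⟩)
    rw [charP_pow_sub hp, pow_one, sub_eq_zero]
    exact hxy
  · obtain ⟨k, s, hs⟩ := IsLocalization.Away.surj (κ r) y
    obtain ⟨t, ht⟩ := h.perf.2.2 (s * κ r ^ ((p - 1) * k))
    have hu : IsUnit (algebraMap S Sr (κ r) ^ k) := (IsLocalization.Away.algebraMap_isUnit (κ r)).pow k
    refine ⟨↑hu.unit⁻¹ * algebraMap S Sr t, (hu.pow p).mul_left_cancel ?_⟩
    change (algebraMap S Sr (κ r) ^ k) ^ p * (↑hu.unit⁻¹ * algebraMap S Sr t) ^ p = _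
    rw [← mul_pow, ← mul_assoc, IsUnit.mul_val_inv, one_mul, ← map_pow, show t ^ p = _ from ht, map_mul, map_pow, ← hs,
      ← pow_mul, mul_assoc, ← pow_add, mul_comm y,
      show k + (p - 1) * k = k * p by rw [add_comm, ← Nat.succ_mul, Nat.succ_eq_add_one, hpe, mul_comm]]
  · obtain ⟨k, s, hs⟩ := IsLocalization.Away.surj (κ r) y
    obtain ⟨n, a, ha⟩ := h.surj s
    have hu : IsUnit (algebraMap R Rr r ^ (k * p ^ n)) := (IsLocalization.Away.algebraMap_isUnit r).pow _
    refine ⟨n, algebraMap R Rr a * ↑hu.unit⁻¹, ?_⟩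
    apply (hu.map κ').mul_right_cancel
    rw [← map_mul, mul_assoc, IsUnit.val_inv_mul, mul_one, hc', ha, map_pow, ← hs, map_pow, mul_pow, ← pow_mul, hc']
  · obtain ⟨k, x, hx⟩ := IsLocalization.Away.surj r a
    have h0 : algebraMap S Sr (κ x) = 0 := by rw [← hc', ← hx, map_mul, ha, zero_mul]
    obtain ⟨⟨_, j, rfl⟩, hj⟩ := (IsLocalization.map_eq_zero_iff (Submonoid.powers (κ r)) Sr _).1 h0
    obtain ⟨n, hn⟩ := h.ker (r ^ j * x) (by rw [map_mul, map_pow]; exact hj)
    refine ⟨n, ?_⟩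
    have h1 := congrArg (algebraMap R Rr) hn
    simp only [mul_pow, map_mul, map_pow, map_zero] at h1
    rw [← hx, mul_pow] at h1
    have hu : IsUnit (algebraMap R Rr r) := IsLocalization.Away.algebraMap_isUnit r
    rw [← mul_assoc, mul_comm ((algebraMap R Rr r ^ j) ^ p ^ n), mul_assoc, ((hu.pow j).pow _).mul ((hu.pow k).pow _) |>.mul_left_eq_zero] at h1
    exact h1

end Groth.Agent.PerfectionLib
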