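import Mathlib
import Groth.Prelude.Def_Frob
import Groth.Agent.PerfectionLib.Ring

/-!
# Perfections of schemes of characteristic `p`
-/

set_option autoImplicit false

universe u

open AlgebraicGeometry CategoryTheory CategoryTheory.Limits AlgebraicGeometry.Scheme
  AlgebraicGeometry.Scheme.AffineZariskiSite

namespace Groth.Agent.PerfectionLib

variable (p : ℕ) [Fact p.Prime] (X : Scheme.{u}) [FrobSch.IsCharP X p]

theorem exists_pc (U : X.Opens) : ∃ (S : CommRingCat.{u}) (κ : Γ(X, U) →+* S), IsPC p κ :=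
  exists_isPC (FrobSch.natCast_eq_zero_app X p U)

/-- The perfection of the ring of sections. -/
noncomputable def pc (U : X.Opens) : CommRingCat.{u} := (exists_pc p X U).choose

noncomputable def toPc (U : X.Opens) : Γ(X, U) →+* pc p X U := (exists_pc p X U).choose_spec.choose

theorem isPC_toPc (U : X.Opens) : IsPC p (toPc p X U) := (exists_pc p X U).choose_spec.choose_spec

noncomputable def pcMap {U V : X.Opens} (f : Γ(X, U) →+* Γ(X, V)) : pc p X U →+* pc p X V :=
  ((isPC_toPc p X U).exists_lift (isPC_toPc p X V).perf ((toPc p X V).comp f)).choose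

theorem pcMap_comp_toPc {U V : X.Opens} (f : Γ(X, U) →+* Γ(X, V)) :
    (pcMap p X f).comp (toPc p X U) = (toPc p X V).comp f :=
  ((isPC_toPc p X U).exists_lift (isPC_toPc p X V).perf ((toPc p X V).comp f)).choose_spec

theorem pcMap_unique {U V : X.Opens} {f : Γ(X, U) →+* Γ(X, V)} {F : pc p X U →+* pc p X V}
    (h : F.comp (toPc p X U) = (toPc p X V).comp f) : F = pcMap p X f :=
  (isPC_toPc p X U).hom_ext (isPC_toPc p X V).perf.isReduced (isPC_toPc p X V).perf.1
    (h.trans (pcMap_comp_toPc p X f).symm)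

/-- The diagram of perfections on affine opens. -/
noncomputable def pcDiagram : X.AffineZariskiSiteᵒᵖ ⥤ CommRingCat.{u} where
  obj U := pc p X U.unop.1
  map i := CommRingCat.ofHom (pcMap p X (((toOpensFunctor X).op ⋙ X.presheaf).map i).hom)
  map_id U := by
    ext1
    refine (pcMap_unique p X ?_).symm
    rw [CategoryTheory.Functor.map_id]
    rfl
  map_comp i j := by
    ext1
    refine (pcMap_unique p X ?_).symm
    rw [CategoryTheory.Functor.map_comp]
    refine RingHom.ext fun x => ?_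
    refine (congrArg (pcMap p X (((toOpensFunctor X).op ⋙ X.presheaf).map j).hom)
      (RingHom.congr_fun (pcMap_comp_toPc p X (((toOpensFunctor X).op ⋙ X.presheaf).map i).hom) x)).trans ?_
    exact RingHom.congr_fun (pcMap_comp_toPc p X (((toOpensFunctor X).op ⋙ X.presheaf).map j).hom) _

noncomputable def pcDiagramMap : (toOpensFunctor X).op ⋙ X.presheaf ⟶ pcDiagram p X where
  app U := CommRingCat.ofHom (toPc p X U.unop.1)
  naturality U V i := by
    ext1
    exact (pcMap_comp_toPc p X (((toOpensFunctor X).op ⋙ X.presheaf).map i).hom).symm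

theorem coequifibered_pcDiagramMap : (pcDiagramMap p X).Coequifibered := by
  refine coequifibered_iff_forall_isLocalizationAway.mpr fun U r => ?_
  let f : Γ(X, U.1) →+* Γ(X, X.basicOpen r) := (X.presheaf.map (homOfLE (X.basicOpen_le r)).op).hom
  let : Algebra Γ(X, U.1) Γ(X, X.basicOpen r) := f.toAlgebra
  have : IsLocalization.Away r Γ(X, X.basicOpen r) := U.2.isLocalization_basicOpen _
  let L := Localization.Away (toPc p X U.1 r)
  have hu : IsUnit (((algebraMap (pc p X U.1) L).comp (toPc p X U.1)) r) :=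
    IsLocalization.Away.algebraMap_isUnit (toPc p X U.1 r)
  let κ' : Γ(X, X.basicOpen r) →+* L := IsLocalization.Away.lift r hu
  have hκ : κ'.comp f = (algebraMap (pc p X U.1) L).comp (toPc p X U.1) := IsLocalization.Away.lift_comp r hu
  have h' : IsPC p κ' := (isPC_toPc p X U.1).localization r κ' hκ
  obtain ⟨χ, hχ⟩ := h'.exists_lift (isPC_toPc p X (X.basicOpen r)).perf (toPc p X (X.basicOpen r))
  obtain ⟨χ', hχ'⟩ := (isPC_toPc p X (X.basicOpen r)).exists_lift h'.perf κ'
  have h1 : χ'.comp χ = RingHom.id _ := h'.hom_ext h'.perf.isReduced h'.perf.1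
    (by rw [RingHom.comp_assoc, hχ, hχ', RingHom.id_comp])
  have h2 : χ.comp χ' = RingHom.id _ :=
    (isPC_toPc p X _).hom_ext (isPC_toPc p X _).perf.isReduced (isPC_toPc p X _).perf.1
    (by rw [RingHom.comp_assoc, hχ', hχ, RingHom.id_comp])
  have hcomm : χ.comp (algebraMap (pc p X U.1) L) = pcMap p X f := pcMap_unique p X
    (by rw [RingHom.comp_assoc, ← hκ, ← RingHom.comp_assoc, hχ])
  letI : Algebra (pc p X U.1) (pc p X (X.basicOpen r)) := (pcMap p X f).toAlgebra
  let e : L ≃ₐ[pc p X U.1] pc p X (X.basicOpen r) :=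
    AlgEquiv.ofRingEquiv (f := RingEquiv.ofRingHom χ χ' h2 h1) fun x => RingHom.congr_fun hcomm x
  have hloc : IsLocalization.Away (toPc p X U.1 r) (pc p X (X.basicOpen r)) :=
    IsLocalization.isLocalization_of_algEquiv (Submonoid.powers (toPc p X U.1 r)) e
  exact hloc

noncomputable def perfData : (directedCover X).RelativeGluingData :=
  relativeGluingData (coequifibered_pcDiagramMap p X)

instance : ((perfData p X).functor ⋙ Scheme.forget).IsLocallyDirected :=
  Cover.RelativeGluingData.instIsLocallyDirectedI₀CompFunctorForgetOfIsThin ..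

/-- The perfection of a scheme. -/
noncomputable def Perf : Scheme.{u} := (perfData p X).glued

noncomputable def perfπ : Perf p X ⟶ X := (perfData p X).toBase

noncomputable def perfCover : (Perf p X).OpenCover := (perfData p X).cover

instance : FrobSch.IsCharP (Perf p X) p := FrobSch.IsCharP.of_hom (perfπ p X) p

theorem ι_perfπ (U : X.AffineZariskiSite) :
    (perfCover p X).f U ≫ perfπ p X = Spec.map (CommRingCat.ofHom (toPc p X U.1)) ≫ U.2.fromSpec :=
  colimit.ι_desc _ _

theorem locally_iff (P : MorphismProperty Scheme.{u}) [IsZariskiLocalAtTarget P] :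
    P (perfπ p X) ↔ ∀ U : X.AffineZariskiSite, P (Spec.map (CommRingCat.ofHom (toPc p X U.1))) := by
  rw [IsZariskiLocalAtTarget.iff_of_openCover (P := P) (directedCover X)]
  refine forall_congr' fun U => ?_
  have h := ((perfData p X).isPullback_natTrans_ι_toBase U).flip
  have e : (perfData p X).natTrans.app U =
      Spec.map (CommRingCat.ofHom (toPc p X U.1)) ≫ U.2.isoSpec.inv := rfl
  show P (pullback.snd (perfData p X).toBase ((directedCover X).f U)) ↔ _
  rw [show pullback.snd (perfData p X).toBase ((directedCover X).f U) =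
      h.isoPullback.inv ≫ (perfData p X).natTrans.app U from h.isoPullback_inv_snd.symm]
  refine (MorphismProperty.cancel_left_of_respectsIso P h.isoPullback.inv ((perfData p X).natTrans.app U)).trans
    ((Iff.of_eq (congrArg (P (X := _) (Y := _)) e)).trans ?_)
  exact MorphismProperty.cancel_right_of_respectsIso P (Spec.map (CommRingCat.ofHom (toPc p X U.1))) U.2.isoSpec.inv

theorem univHomeo_perfπ : FlatMor.IsUnivHomeo (perfπ p X) := by
  have : IsZariskiLocalAtTarget (@IsIntegralHom : MorphismProperty Scheme.{u}) :=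
    @HasAffineProperty.instIsZariskiLocalAtTarget _ _ IsIntegralHom.hasAffineProperty
  have h (U : X.AffineZariskiSite) := (Groth.Agent.S0415.result _).1 (isPC_toPc p X U.1).univHomeo
  exact (Groth.Agent.S0415.result _).2 ⟨(locally_iff p X @IsIntegralHom).2 fun U => (h U).1,
    (locally_iff p X @UniversallyInjective).2 fun U => (h U).2.1,
    (locally_iff p X @Surjective).2 fun U => (h U).2.2⟩

variable {p}

theorem frob_restrict {Z : Scheme.{u}} [FrobSch.IsCharP Z p] (U : Z.Opens) [FrobSch.IsCharP (U : Scheme.{u}) p] :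
    (FrobSch.frob Z p) ∣_ U = FrobSch.frob (U : Scheme.{u}) p := by
  rw [← cancel_mono U.ι, morphismRestrict_ι]
  exact (FrobSch.frob_comp p U.ι).symm

theorem isPerfect_of_openCover {Z : Scheme.{u}} [FrobSch.IsCharP Z p] (𝒰 : Z.OpenCover)
    (h : ∀ i, ∀ [FrobSch.IsCharP (𝒰.X i) p], FrobSch.IsPerfect (𝒰.X i) p) : FrobSch.IsPerfect Z p := by
  change MorphismProperty.isomorphisms Scheme.{u} (FrobSch.frob Z p)
  rw [IsZariskiLocalAtTarget.iff_of_iSup_eq_top (P := MorphismProperty.isomorphisms Scheme.{u})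
    (fun i => (𝒰.f i).opensRange) 𝒰.iSup_opensRange]
  intro i
  have h2 : FrobSch.IsCharP (𝒰.X i) p := FrobSch.IsCharP.of_hom (𝒰.f i) p
  have h1 : FrobSch.IsCharP ((𝒰.f i).opensRange : Scheme.{u}) p := FrobSch.IsCharP.of_hom (𝒰.f i).opensRange.ι p
  rw [frob_restrict]
  have : IsIso (FrobSch.frob (𝒰.X i) p) := h i
  change IsIso _
  have e := FrobSch.frob_comp p (𝒰.f i).isoOpensRange.inv
  rw [show FrobSch.frob ((𝒰.f i).opensRange : Scheme.{u}) p =
    (𝒰.f i).isoOpensRange.inv ≫ FrobSch.frob (𝒰.X i) p ≫ (𝒰.f i).isoOpensRange.hom by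
      rw [← Category.assoc, ← e, Category.assoc, Iso.inv_hom_id, Category.comp_id]]
  exact IsIso.comp_isIso' inferInstance (IsIso.comp_isIso' this inferInstance)

theorem isIso_of_appTop {A B : Scheme.{u}} [IsAffine A] [IsAffine B] (f : A ⟶ B) [IsIso f.appTop] : IsIso f := by
  rw [show f = A.isoSpec.hom ≫ Spec.map f.appTop ≫ B.isoSpec.inv by
    rw [Scheme.isoSpec_hom_naturality_assoc, Iso.hom_inv_id, Category.comp_id]]
  infer_instance

theorem isPerfect_spec {S : CommRingCat.{u}} [FrobSch.IsCharP (Spec S) p] (h : IsPerfRing p S) :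
    FrobSch.IsPerfect (Spec S) p := by
  have : IsIso (FrobSch.frob (Spec S) p).appTop := by
    rw [ConcreteCategory.isIso_iff_bijective]
    exact (h.of_ringEquiv (Scheme.ΓSpecIso S).commRingCatIsoToRingEquiv.symm).2
  exact isIso_of_appTop _

theorem bijective_pow {Z : Scheme.{u}} [FrobSch.IsCharP Z p] (h : FrobSch.IsPerfect Z p) (U : Z.Opens) :
    IsPerfRing p Γ(Z, U) := by
  refine ⟨FrobSch.natCast_eq_zero_app Z p U, ?_⟩
  have : IsIso ((FrobSch.frob Z p).app U) := inferInstance
  exact ConcreteCategory.bijective_of_isIso ((FrobSch.frob Z p).app U)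

theorem isReduced_of_isPerfect {Z : Scheme.{u}} [FrobSch.IsCharP Z p] (h : FrobSch.IsPerfect Z p) :
    AlgebraicGeometry.IsReduced Z :=
  ⟨fun U => (bijective_pow h U).isReduced⟩

theorem isPerfect_affineOpen {Z : Scheme.{u}} (U : Z.affineOpens) [FrobSch.IsCharP (U.1 : Scheme.{u}) p]
    (h : IsPerfRing p Γ(Z, U.1)) : FrobSch.IsPerfect (U.1 : Scheme.{u}) p := by
  have : IsAffine (U.1 : Scheme.{u}) := U.2
  have : IsIso (FrobSch.frob (U.1 : Scheme.{u}) p).appTop := by
    rw [ConcreteCategory.isIso_iff_bijective]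
    exact (h.of_ringEquiv U.1.topIso.commRingCatIsoToRingEquiv.symm).2
  exact isIso_of_appTop _

theorem isPerfect_iff {Z : Scheme.{u}} [FrobSch.IsCharP Z p] :
    FrobSch.IsPerfect Z p ↔ ∀ U : Z.affineOpens, IsPerfRing p Γ(Z, U.1) := by
  refine ⟨fun h U => bijective_pow h U.1, fun h => ?_⟩
  refine isPerfect_of_openCover (Scheme.openCoverOfIsOpenCover Z (fun U : Z.affineOpens => U.1)
    (iSup_affineOpens_eq_top Z)) fun (U : Z.affineOpens) => fun {i} => @isPerfect_affineOpen p _ Z U i (h U)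

variable (p)

theorem isPerfect_Perf : FrobSch.IsPerfect (Perf p X) p :=
  isPerfect_of_openCover (perfCover p X) fun U => fun [FrobSch.IsCharP ((perfCover p X).X U) p] =>
    @isPerfect_spec p _ (pc p X (U : X.AffineZariskiSite).1) ‹_› (isPC_toPc p X (U : X.AffineZariskiSite).1).perf

theorem exists_perfLift {Y : Scheme.{u}} [FrobSch.IsCharP Y p] (hY : FrobSch.IsPerfect Y p) (g : Y ⟶ X) :
    ∃ h : Y ⟶ Perf p X, h ≫ perfπ p X = g := by
  let J := {W : X.AffineZariskiSite × Y.affineOpens // W.2.1 ≤ g ⁻¹ᵁ W.1.1}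
  have hcov : ⨆ W : J, W.1.2.1 = ⊤ := by
    refine eq_top_iff.mpr fun y _ => ?_
    obtain ⟨U, hU, hyU, -⟩ := TopologicalSpace.Opens.isBasis_iff_nbhd.mp X.isBasis_affineOpens
      (show g y ∈ (⊤ : X.Opens) from trivial)
    obtain ⟨V, hV, hyV, hVU⟩ := TopologicalSpace.Opens.isBasis_iff_nbhd.mp Y.isBasis_affineOpens
      (show y ∈ g ⁻¹ᵁ U from hyU)
    exact TopologicalSpace.Opens.mem_iSup.mpr ⟨⟨(⟨U, hU⟩, ⟨V, hV⟩), hVU⟩, hyV⟩
  let 𝒱 := Scheme.openCoverOfIsOpenCover Y (fun W : J => W.1.2.1) hcov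
  have loc : ∀ W : J, ∃ h : (W.1.2.1 : Scheme.{u}) ⟶ Perf p X, h ≫ perfπ p X = W.1.2.1.ι ≫ g := by
    intro W
    obtain ⟨χ, hχ⟩ := (isPC_toPc p X W.1.1.1).exists_lift (bijective_pow hY W.1.2.1) (g.appLE W.1.1.1 W.1.2.1 W.2).hom
    refine ⟨W.1.2.2.isoSpec.hom ≫ Spec.map (CommRingCat.ofHom χ) ≫ (perfCover p X).f W.1.1, ?_⟩
    refine (Category.assoc _ _ _).trans ((congrArg (W.1.2.2.isoSpec.hom ≫ ·) ((Category.assoc _ _ _).trans
      (congrArg (Spec.map (CommRingCat.ofHom χ) ≫ ·) (ι_perfπ p X W.1.1)))).trans ?_)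
    rw [← Spec.map_comp_assoc, ← CommRingCat.ofHom_comp, hχ, CommRingCat.ofHom_hom,
      IsAffineOpen.SpecMap_appLE_fromSpec g W.1.1.2 W.1.2.2 W.2, IsAffineOpen.isoSpec_hom_fromSpec_assoc]
  choose h hh using loc
  have huniq := (univHomeo_perfπ p X)
  refine ⟨𝒱.glueMorphisms h fun (V W : J) => ?_, 𝒱.hom_ext _ _ fun (W : J) => ?_⟩
  · have := isReduced_of_isPerfect hY
    have : AlgebraicGeometry.IsReduced (pullback (𝒱.f V) (𝒱.f W)) :=
      isReduced_of_isOpenImmersion (pullback.fst (𝒱.f V) (𝒱.f W) ≫ 𝒱.f V)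
    refine AWNLib.eq_of_comp_univHomeo (perfπ p X) huniq ?_
    refine (Category.assoc _ _ _).trans ((congrArg (pullback.fst (𝒱.f V) (𝒱.f W) ≫ ·) (hh V)).trans ?_)
    refine Eq.trans ?_ ((Category.assoc _ _ _).trans (congrArg (pullback.snd (𝒱.f V) (𝒱.f W) ≫ ·) (hh W))).symm
    exact pullback.condition_assoc g
  · refine (Category.assoc _ _ _).symm.trans ((congrArg (· ≫ perfπ p X) (𝒱.ι_glueMorphisms h _ W)).trans ?_)
    exact hh W

theorem isPerfection_perfπ : FrobSch.IsPerfection (perfπ p X) p := by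
  refine ⟨isPerfect_Perf p X, fun Y _ hY => ⟨fun a b hab => ?_, fun g => exists_perfLift p X hY g⟩⟩
  have := isReduced_of_isPerfect hY
  exact AWNLib.eq_of_comp_univHomeo (perfπ p X) (univHomeo_perfπ p X) hab

theorem exists_iso {XP : Scheme.{u}} [FrobSch.IsCharP XP p] {π : XP ⟶ X} (h : FrobSch.IsPerfection π p) :
    ∃ e : XP ≅ Perf p X, e.hom ≫ perfπ p X = π := by
  obtain ⟨a, ha⟩ := exists_perfLift p X h.1 π
  obtain ⟨b, hb⟩ := (h.2 (Perf p X) (isPerfect_Perf p X)).2 (perfπ p X)
  refine ⟨⟨a, b, (h.2 XP h.1).1 ?_, ((isPerfection_perfπ p X).2 (Perf p X) (isPerfect_Perf p X)).1 ?_⟩, ha⟩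
  · change (a ≫ b) ≫ π = 𝟙 XP ≫ π
    rw [Category.assoc, show b ≫ π = _ from hb, ha, Category.id_comp]
  · change (b ≫ a) ≫ perfπ p X = 𝟙 _ ≫ perfπ p X
    rw [Category.assoc, ha, show b ≫ π = _ from hb, Category.id_comp]

theorem univHomeo_of_isPerfection {XP : Scheme.{u}} [FrobSch.IsCharP XP p] {π : XP ⟶ X}
    (h : FrobSch.IsPerfection π p) : FlatMor.IsUnivHomeo π := by
  obtain ⟨e, he⟩ := exists_iso p X h
  have : MorphismProperty.RespectsIso FlatMor.IsUnivHomeo.{u} := MorphismProperty.universally_respectsIso _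
  rw [← he, MorphismProperty.cancel_left_of_respectsIso FlatMor.IsUnivHomeo]
  exact univHomeo_perfπ p X

end Groth.Agent.PerfectionLib
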