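import Mathlib
import Groth.Agent.PerfectionLib.Scheme
import Groth.Agent.S7401
import Groth.Agent.S0416
import Groth.Agent.FFDescLib.EtaleGraph

/-!
# Universal homeomorphisms out of perfect schemes
-/

set_option autoImplicit false

universe u

open AlgebraicGeometry CategoryTheory CategoryTheory.Limits

namespace Groth.Agent.PerfectionLib

variable {p : ℕ} [Fact p.Prime]

theorem exists_pow_mem_range {A B : Type u} [CommRing A] [CommRing B] (φ : A →+* B)
    (hφ : FlatMor.IsUnivHomeo (Spec.map (CommRingCat.ofHom φ))) (hp : (p : B) = 0) (b : B) :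
    ∃ (n : ℕ) (a : A), φ a = b ^ p ^ n := by
  classical
  obtain ⟨h1, h2, h3⟩ := (AWNLib.univHomeo_iff φ).1 hφ
  let ψ : φ.range →+* B := φ.range.subtype
  have hψ : FlatMor.IsUnivHomeo (Spec.map (CommRingCat.ofHom (algebraMap φ.range B))) := by
    rw [AWNLib.univHomeo_iff]
    have hcomp : (algebraMap φ.range B).comp φ.rangeRestrict = φ := rfl
    refine ⟨RingHom.IsIntegral.tower_top φ.rangeRestrict _ (hcomp.symm ▸ h1), fun q => ?_, fun K _ g₁ g₂ e => ?_⟩
    · obtain ⟨Q, hQ⟩ := h2 (PrimeSpectrum.comap φ.rangeRestrict q)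
      refine ⟨Q, PrimeSpectrum.comap_injective_of_surjective _ φ.rangeRestrict_surjective ?_⟩
      rw [← hQ]
      rfl
    · exact h3 K g₁ g₂ (RingHom.ext fun a => RingHom.congr_fun e (φ.rangeRestrict a))
  let T : Subalgebra φ.range B :=
    { carrier := {b | ∃ (n : ℕ) (a : A), φ a = b ^ p ^ n}
      mul_mem' := fun {x y} ⟨n, a, ha⟩ ⟨m, c, hc⟩ => ⟨n + m, a ^ p ^ m * c ^ p ^ n, by
        rw [map_mul, map_pow, map_pow, ha, hc, mul_pow, ← pow_mul, ← pow_mul, ← pow_add, ← pow_add, add_comm m n]⟩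
      add_mem' := fun {x y} ⟨n, a, ha⟩ ⟨m, c, hc⟩ => ⟨n + m, a ^ p ^ m + c ^ p ^ n, by
        rw [map_add, map_pow, map_pow, ha, hc, charP_pow_add hp, ← pow_mul, ← pow_mul, ← pow_add, ← pow_add, add_comm m n]⟩
      algebraMap_mem' := fun r => by
        obtain ⟨a, ha⟩ := r.2
        exact ⟨0, a, by rw [pow_zero, pow_one]; exact ha⟩ }
  obtain ⟨l, hl, hstep⟩ := (Groth.Agent.S7401.result (A := φ.range) (B := B) Subtype.val_injective).1 hψ {b}
  suffices hall : ∀ (k : ℕ) (hk : k < l.length), l.get ⟨k, hk⟩ ∈ T by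
    have hle : Algebra.adjoin φ.range {b : B | b ∈ l} ≤ T := Algebra.adjoin_le fun x hx => by
      obtain ⟨i, rfl⟩ := List.mem_iff_get.1 hx
      exact hall i.1 i.2
    exact hle (hl (by simp))
  intro k
  induction k using Nat.strong_induction_on with
  | _ k ih =>
    intro hk
    have hle : Algebra.adjoin φ.range {b : B | ∃ j : Fin l.length, j < (⟨k, hk⟩ : Fin l.length) ∧ b = l.get j} ≤ T :=
      Algebra.adjoin_le fun x ⟨j, hj, hx⟩ => hx ▸ ih j.1 hj j.2
    have hroot : ∀ x : B, x ^ p ∈ T → x ∈ T := fun x ⟨n, a, ha⟩ =>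
      ⟨n + 1, a, by rw [ha, ← pow_mul, ← pow_succ']⟩
    rcases hstep ⟨k, hk⟩ with ⟨a2, a3⟩ | ⟨q, hq, hql, hlq⟩
    · refine hroot _ ?_
      rcases (Fact.out : p.Prime).eq_two_or_odd' with h2' | ⟨c, hc⟩
      · rw [h2']; exact hle a2
      · have : 1 ≤ c := by
          by_contra hc0
          have := (Fact.out : p.Prime).two_le
          omega
        rw [show p = 2 * (c - 1) + 3 by omega, pow_add, pow_mul]
        exact T.mul_mem (T.pow_mem (hle a2) _) (hle a3)
    · by_cases hqp : q = p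
      · subst hqp
        exact hroot _ (hle hlq)
      · have hco : Nat.Coprime q p := (Nat.coprime_primes hq Fact.out).2 hqp
        obtain ⟨x, y, hxy⟩ := (Int.isCoprime_iff_gcd_eq_one.2 (by simpa [Int.gcd_natCast_natCast] using hco) : IsCoprime (q : ℤ) (p : ℤ))
        have h1' : (x : B) * (q : B) = 1 := by
          have := congrArg (fun z : ℤ => (z : B)) hxy
          simpa [hp] using this
        have : l.get ⟨k, hk⟩ = (x : B) * ((q : B) * l.get ⟨k, hk⟩) := by rw [← mul_assoc, h1', one_mul]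
        rw [this]
        exact T.mul_mem (intCast_mem T x) (hle hql)

theorem isPC_of_univHomeo {A B : Type u} [CommRing A] [CommRing B] (φ : A →+* B)
    (hφ : FlatMor.IsUnivHomeo (Spec.map (CommRingCat.ofHom φ))) (hB : IsPerfRing p B) : IsPC p φ where
  perf := hB
  surj b := exists_pow_mem_range φ hφ hB.1 b
  ker a ha := by
    obtain ⟨n, hn⟩ := AWNLib.isNilpotent_of_surjective_comap φ ((AWNLib.univHomeo_iff φ).1 hφ).2.1 ha
    exact ⟨n, pow_eq_zero_of_le (Nat.lt_pow_self (Fact.out : p.Prime).one_lt).le hn⟩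

theorem isAffineHom_of_univHomeo {X Y : Scheme.{u}} {π : Y ⟶ X} (hπ : FlatMor.IsUnivHomeo π) : IsAffineHom π :=
  have := ((Groth.Agent.S0415.result π).1 hπ).1
  inferInstance

theorem isPC_app {X Y : Scheme.{u}} [FrobSch.IsCharP Y p] (hY : FrobSch.IsPerfect Y p) (π : Y ⟶ X)
    (hπ : FlatMor.IsUnivHomeo π) (U : X.affineOpens) : IsPC p (π.app U.1).hom :=
  have := isAffineHom_of_univHomeo hπ
  isPC_of_univHomeo _ (by rw [CommRingCat.ofHom_hom]; exact AWNLib.univHomeo_app π hπ U.1 U.2) (bijective_pow hY _)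

theorem isIso_of_univHomeo {X Y : Scheme.{u}} (f : Y ⟶ X) (hX : ∀ U : X.affineOpens, IsPerfRing p Γ(X, U.1))
    (hY : ∀ V : Y.affineOpens, IsPerfRing p Γ(Y, V.1)) (hf : FlatMor.IsUnivHomeo f) : IsIso f := by
  have := isAffineHom_of_univHomeo hf
  change MorphismProperty.isomorphisms Scheme.{u} f
  rw [IsZariskiLocalAtTarget.iff_of_iSup_eq_top (P := MorphismProperty.isomorphisms Scheme.{u})
    (fun U : X.affineOpens => U.1) (iSup_affineOpens_eq_top X)]
  intro U
  change IsIso (f ∣_ U.1)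
  have hV : IsAffineOpen (f ⁻¹ᵁ U.1) := U.2.preimage f
  have hpc := isPC_of_univHomeo (p := p) (f.app U.1).hom (by rw [CommRingCat.ofHom_hom]; exact AWNLib.univHomeo_app f hf U.1 U.2)
    (hY ⟨_, hV⟩)
  have : IsIso (f.app U.1) := (ConcreteCategory.isIso_iff_bijective _).2 (hpc.bijective_of_perf (hX U))
  have e : f ∣_ U.1 = hV.isoSpec.hom ≫ Spec.map (f.app U.1) ≫ U.2.isoSpec.inv := by
    rw [← cancel_mono U.1.ι]
    simp only [Category.assoc, morphismRestrict_ι, IsAffineOpen.isoSpec_inv_ι, Scheme.Hom.app_eq_appLE]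
    rw [IsAffineOpen.SpecMap_appLE_fromSpec f U.2 hV, IsAffineOpen.isoSpec_hom_fromSpec_assoc]
  rw [e]
  infer_instance

theorem isIso_of_univHomeo' {X Y : Scheme.{u}} [FrobSch.IsCharP X p] [FrobSch.IsCharP Y p] (f : Y ⟶ X)
    (hX : FrobSch.IsPerfect X p) (hY : FrobSch.IsPerfect Y p) (hf : FlatMor.IsUnivHomeo f) : IsIso f :=
  isIso_of_univHomeo f (fun _ => bijective_pow hX _) (fun _ => bijective_pow hY _) hf

/-- A universal homeomorphism from a perfect scheme is a perfection. -/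
theorem isPerfection_of_univHomeo {X Y : Scheme.{u}} [FrobSch.IsCharP X p] [FrobSch.IsCharP Y p]
    (hY : FrobSch.IsPerfect Y p) (π : Y ⟶ X) (hπ : FlatMor.IsUnivHomeo π) : FrobSch.IsPerfection π p := by
  refine ⟨hY, fun Z _ hZ => ⟨fun a b hab => ?_, fun g => ?_⟩⟩
  · have := isReduced_of_isPerfect hZ
    exact AWNLib.eq_of_comp_univHomeo π hπ hab
  · obtain ⟨a, ha⟩ := exists_perfLift p X hY π
    have : IsIso a := isIso_of_univHomeo' a (isPerfect_Perf p X) hY
      ((Groth.Agent.S0416.result a (perfπ p X)).2 (by rw [ha]; exact hπ) (univHomeo_perfπ p X))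
    obtain ⟨h, hh⟩ := exists_perfLift p X hZ g
    refine ⟨h ≫ inv a, ?_⟩
    change (h ≫ inv a) ≫ π = g
    rw [Category.assoc, ← ha, IsIso.inv_hom_id_assoc, hh]

theorem univHomeo_powHom {R : Type u} [CommRing R] (hR : (p : R) = 0) :
    FlatMor.IsUnivHomeo (Spec.map (CommRingCat.ofHom (FrobSch.powHom p R hR))) := by
  rw [AWNLib.univHomeo_iff]
  refine ⟨fun b => ?_, fun q => ⟨q, PrimeSpectrum.ext (Ideal.ext fun x => ?_)⟩, fun K _ g₁ g₂ e => RingHom.ext fun x => ?_⟩
  · let := (FrobSch.powHom p R hR).toAlgebra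
    exact IsIntegral.of_pow (R := R) (Fact.out : p.Prime).pos (isIntegral_algebraMap : IsIntegral R (algebraMap R R b))
  · change x ^ p ∈ q.asIdeal ↔ x ∈ q.asIdeal
    exact ⟨fun h => q.2.mem_of_pow_mem _ h, fun h => q.asIdeal.pow_mem_of_mem h _ (Fact.out : p.Prime).pos⟩
  · have := RingHom.congr_fun e x
    simp only [RingHom.comp_apply, FrobSch.powHom_apply, map_pow] at this
    have hK : (p : K) = 0 := by rw [← map_natCast g₁, hR, map_zero]
    refine sub_eq_zero.1 (IsReduced.eq_zero _ ⟨p ^ 1, ?_⟩)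
    rw [charP_pow_sub hK, pow_one, sub_eq_zero]
    exact this

theorem univHomeo_frob (X : Scheme.{u}) [FrobSch.IsCharP X p] : FlatMor.IsUnivHomeo (FrobSch.frob X p) := by
  have : MorphismProperty.RespectsIso FlatMor.IsUnivHomeo.{u} := MorphismProperty.universally_respectsIso _
  have key : ∀ U : X.affineOpens, FlatMor.IsUnivHomeo (FrobSch.frob X p ∣_ U.1) := by
    intro U
    have hV : IsAffineOpen (FrobSch.frob X p ⁻¹ᵁ U.1) := U.2
    have e : FrobSch.frob X p ∣_ U.1 = hV.isoSpec.hom ≫ Spec.map ((FrobSch.frob X p).app U.1) ≫ U.2.isoSpec.inv := by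
      rw [← cancel_mono U.1.ι]
      simp only [Category.assoc, morphismRestrict_ι, IsAffineOpen.isoSpec_inv_ι, Scheme.Hom.app_eq_appLE]
      rw [IsAffineOpen.SpecMap_appLE_fromSpec (FrobSch.frob X p) U.2 hV, IsAffineOpen.isoSpec_hom_fromSpec_assoc]
    rw [e, MorphismProperty.cancel_left_of_respectsIso FlatMor.IsUnivHomeo,
      MorphismProperty.cancel_right_of_respectsIso FlatMor.IsUnivHomeo]
    exact univHomeo_powHom (R := Γ(X, U.1)) (FrobSch.natCast_eq_zero_app X p U.1)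
  have : IsZariskiLocalAtTarget (@IsIntegralHom : MorphismProperty Scheme.{u}) :=
    @HasAffineProperty.instIsZariskiLocalAtTarget _ _ IsIntegralHom.hasAffineProperty
  have h (U : X.affineOpens) := (Groth.Agent.S0415.result _).1 (key U)
  have hc := iSup_affineOpens_eq_top X
  exact (Groth.Agent.S0415.result _).2
    ⟨(IsZariskiLocalAtTarget.iff_of_iSup_eq_top (P := @IsIntegralHom) (fun U : X.affineOpens => U.1) hc).2 fun U => (h U).1,
    (IsZariskiLocalAtTarget.iff_of_iSup_eq_top (P := @UniversallyInjective) (fun U : X.affineOpens => U.1) hc).2 fun U => (h U).2.1,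
    (IsZariskiLocalAtTarget.iff_of_iSup_eq_top (P := @Surjective) (fun U : X.affineOpens => U.1) hc).2 fun U => (h U).2.2⟩

theorem isPerfect_of_etale {X Y : Scheme.{u}} [FrobSch.IsCharP X p] [FrobSch.IsCharP Y p] (f : X ⟶ Y) [Etale f]
    (hY : FrobSch.IsPerfect Y p) : FrobSch.IsPerfect X p := by
  have : IsIso (FrobSch.frob Y p) := hY
  obtain ⟨-, h2, h3⟩ := (Groth.Agent.S0415.result _).1 (univHomeo_frob (p := p) X)
  have : Etale (FrobSch.frob X p ≫ f) := by rw [FrobSch.frob_comp]; infer_instance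
  have : Etale (FrobSch.frob X p) := Etale.of_comp _ f
  exact FFDescLib.isIso_of_etale_univInjective_surjective _

theorem isPerfect_of_isOpenImmersion {X Y : Scheme.{u}} [FrobSch.IsCharP X p] [FrobSch.IsCharP Y p] (f : X ⟶ Y)
    [IsOpenImmersion f] (hY : FrobSch.IsPerfect Y p) : FrobSch.IsPerfect X p :=
  isPerfect_of_etale f hY

theorem charP_pow_sum {S : Type u} [CommRing S] (hp : (p : S) = 0) {ι : Type*} (s : Finset ι) (x : ι → S) (n : ℕ) :
    (∑ i ∈ s, x i) ^ p ^ n = ∑ i ∈ s, x i ^ p ^ n := by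
  classical
  induction s using Finset.induction with
  | empty => simp [zero_pow (pow_ne_zero _ (Fact.out : p.Prime).ne_zero)]
  | insert j s hj ih => rw [Finset.sum_insert hj, Finset.sum_insert hj, charP_pow_add hp, ih]

theorem flat_of_isPC {A B SA SB : Type u} [CommRing A] [CommRing B] [CommRing SA] [CommRing SB]
    {κA : A →+* SA} {κB : B →+* SB} (hA : IsPC p κA) (hB : IsPC p κB) (hpB : (p : B) = 0) {φ : A →+* B} (hφ : φ.Flat)
    {g : SA →+* SB} (hg : g.comp κA = κB.comp φ) : g.Flat := by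
  let := φ.toAlgebra
  let := g.toAlgebra
  have hgc : ∀ a, g (κA a) = κB (φ a) := RingHom.congr_fun hg
  rw [RingHom.Flat, Module.Flat.iff_forall_isTrivialRelation]
  intro l α β hrel
  classical
  choose n a ha using fun i => hA.surj (α i)
  choose m b hb using fun i => hB.surj (β i)
  let N := Finset.univ.sup n + Finset.univ.sup m
  have hn : ∀ i, n i ≤ N := fun i => (Finset.le_sup (Finset.mem_univ i)).trans (Nat.le_add_right _ _)
  have hm : ∀ i, m i ≤ N := fun i => (Finset.le_sup (Finset.mem_univ i)).trans (Nat.le_add_left _ _)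
  let a₁ := fun i => a i ^ p ^ (N - n i)
  let b₁ := fun i => b i ^ p ^ (N - m i)
  have ha₁ : ∀ i, κA (a₁ i) = α i ^ p ^ N := fun i => by
    rw [map_pow, ha, ← pow_mul, ← pow_add, Nat.add_sub_cancel' (hn i)]
  have hb₁ : ∀ i, κB (b₁ i) = β i ^ p ^ N := fun i => by
    rw [map_pow, hb, ← pow_mul, ← pow_add, Nat.add_sub_cancel' (hm i)]
  obtain ⟨M, hM⟩ := hB.ker (∑ i, φ (a₁ i) * b₁ i) (by
    simp only [map_sum, map_mul, ← hgc, ha₁, hb₁, map_pow, ← mul_pow]
    rw [← charP_pow_sum hB.perf.1]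
    have h0 : ∑ i, g (α i) * β i = 0 := hrel
    rw [h0, zero_pow (pow_ne_zero _ (Fact.out : p.Prime).ne_zero)])
  have hrelB : ∑ i, (a₁ i ^ p ^ M) • (b₁ i ^ p ^ M) = (0 : B) := by
    rw [← hM, charP_pow_sum hpB]
    refine Finset.sum_congr rfl fun i _ => ?_
    rw [Algebra.smul_def, mul_pow]
    exact congrArg (· * _) (map_pow φ _ _)
  obtain ⟨k, c, d, hcd, hc0⟩ := (Module.Flat.iff_forall_isTrivialRelation.1 hφ) hrelB
  have hroot : ∀ s : SA, ∃ t : SA, t ^ p ^ (N + M) = s := fun s => (hA.perf.pow_bij _).2 s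
  choose C hC using fun i j => hroot (κA (c i j))
  choose D hD using fun j => (hB.perf.pow_bij (N + M)).2 (κB (d j))
  refine ⟨k, C, D, fun i => ?_, fun j => ?_⟩
  · apply (hB.perf.pow_bij (N + M)).1
    change β i ^ p ^ (N + M) = (∑ j, C i j • D j) ^ p ^ (N + M)
    rw [charP_pow_sum hB.perf.1]
    have h1 : β i ^ p ^ (N + M) = κB (b₁ i ^ p ^ M) := by rw [map_pow, hb₁, ← pow_mul, ← pow_add]
    have h2 : b₁ i ^ p ^ M = ∑ j, c i j • d j := hcd i
    rw [h1, h2, map_sum]
    refine Finset.sum_congr rfl fun j _ => ?_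
    rw [Algebra.smul_def, Algebra.smul_def, mul_pow, map_mul]
    change κB (φ (c i j)) * κB (d j) = g (C i j) ^ p ^ (N + M) * _
    rw [← map_pow g, hC, show D j ^ p ^ (N + M) = _ from hD j, hgc]
  · apply (hA.perf.pow_bij (N + M)).1
    change (∑ i, α i * C i j) ^ p ^ (N + M) = 0 ^ p ^ (N + M)
    rw [zero_pow (pow_ne_zero _ (Fact.out : p.Prime).ne_zero), charP_pow_sum hA.perf.1, ← map_zero κA, ← hc0 j, map_sum]
    refine Finset.sum_congr rfl fun i _ => ?_
    rw [mul_pow, hC, map_mul, map_pow, ha₁, ← pow_mul, ← pow_add]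

end Groth.Agent.PerfectionLib
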