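import Mathlib
import Groth.Agent.PerfectionLib.Apps

/-!
# Properties of morphisms and perfections
-/

set_option autoImplicit false

universe u

open AlgebraicGeometry CategoryTheory CategoryTheory.Limits

namespace Groth.Agent.PerfectionLib

variable {p : ℕ} [Fact p.Prime] {X Y XP YP : Scheme.{u}}
  [FrobSch.IsCharP X p] [FrobSch.IsCharP Y p] [FrobSch.IsCharP XP p] [FrobSch.IsCharP YP p]
  {πX : XP ⟶ X} {πY : YP ⟶ Y}

omit [Fact p.Prime] in
theorem quasiCompact_of_comp_surjective {A B C : Scheme.{u}} (g : A ⟶ B) (f : B ⟶ C) [Surjective g]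
    [QuasiCompact (g ≫ f)] : QuasiCompact f := by
  refine ⟨fun U hU hUc => ?_⟩
  have h1 : IsCompact ((g ≫ f) ⁻¹' U) := QuasiCompact.isCompact_preimage (f := g ≫ f) U hU hUc
  rw [Scheme.Hom.comp_base, TopCat.coe_comp, Set.preimage_comp] at h1
  have := h1.image g.continuous
  rwa [Set.image_preimage_eq _ g.surjective] at this

omit [Fact p.Prime] in
theorem facts {A B : Scheme.{u}} {π : A ⟶ B} (h : FlatMor.IsUnivHomeo π) :
    IsIntegralHom π ∧ Surjective π :=
  ⟨((Groth.Agent.S0415.result π).1 h).1, ((Groth.Agent.S0415.result π).1 h).2.2⟩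

omit [Fact p.Prime] in
theorem univHomeo_comp {A B C : Scheme.{u}} {g : A ⟶ B} {f : B ⟶ C} (hg : FlatMor.IsUnivHomeo g)
    (hf : FlatMor.IsUnivHomeo f) : FlatMor.IsUnivHomeo (g ≫ f) := by
  obtain ⟨_, _, _⟩ := (Groth.Agent.S0415.result g).1 hg
  obtain ⟨_, _, _⟩ := (Groth.Agent.S0415.result f).1 hf
  exact (Groth.Agent.S0415.result _).2 ⟨inferInstance, MorphismProperty.comp_mem @UniversallyInjective g f ‹_› ‹_›, inferInstance⟩

theorem exists_stalkMap_congr {A B : Scheme.{u}} {g g' : A ⟶ B} (h : g = g') (x : A) (s : A.presheaf.stalk x)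
    (hs : ∃ b, g.stalkMap x b = s) : ∃ b, g'.stalkMap x b = s := by
  subst h; exact hs

variable (hX : FrobSch.IsPerfection πX p) (hY : FrobSch.IsPerfection πY p) {f : X ⟶ Y} {fP : XP ⟶ YP}
  (w : fP ≫ πY = πX ≫ f)

include hX hY w

theorem quasiCompact_iff : QuasiCompact f ↔ QuasiCompact fP := by
  obtain ⟨_, _⟩ := facts (univHomeo_of_isPerfection p X hX)
  obtain ⟨_, _⟩ := facts (univHomeo_of_isPerfection p Y hY)
  constructor
  · intro _
    have : QuasiCompact (fP ≫ πY) := by rw [w]; infer_instance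
    exact QuasiCompact.of_comp fP πY
  · intro _
    have : QuasiCompact (πX ≫ f) := by rw [← w]; infer_instance
    exact quasiCompact_of_comp_surjective πX f

theorem universallyClosed_iff : UniversallyClosed f ↔ UniversallyClosed fP := by
  obtain ⟨_, _⟩ := facts (univHomeo_of_isPerfection p X hX)
  obtain ⟨_, _⟩ := facts (univHomeo_of_isPerfection p Y hY)
  constructor
  · intro _
    have : UniversallyClosed (fP ≫ πY) := by rw [w]; infer_instance
    exact UniversallyClosed.of_comp_of_isSeparated fP πY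
  · intro _
    have : UniversallyClosed (πX ≫ f) := by rw [← w]; infer_instance
    exact UniversallyClosed.of_comp_surjective πX f

theorem univHomeo_iff' : FlatMor.IsUnivHomeo f ↔ FlatMor.IsUnivHomeo fP := by
  have hu := univHomeo_of_isPerfection p X hX
  have hv := univHomeo_of_isPerfection p Y hY
  constructor
  · intro h
    refine (Groth.Agent.S0416.result fP πY).2 ?_ hv
    rw [w]
    exact univHomeo_comp hu h
  · intro h
    refine (Groth.Agent.S0416.result πX f).1 ?_ hu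
    rw [← w]
    exact univHomeo_comp h hv

omit [FrobSch.IsCharP X p] [FrobSch.IsCharP Y p] hX hY w [Fact p.Prime] [FrobSch.IsCharP XP p] [FrobSch.IsCharP YP p] in
theorem diag_comp (g : X ⟶ Y) :
    pullback.diagonal (πX ≫ g) ≫ pullback.map (πX ≫ g) (πX ≫ g) g g πX πX (𝟙 Y) (by simp) (by simp) =
      πX ≫ pullback.diagonal g := by
  apply pullback.hom_ext
  · simp only [pullback.map, Category.assoc]
    rw [pullback.lift_fst, ← Category.assoc, pullback.diagonal_fst, Category.id_comp, pullback.diagonal_fst,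
      Category.comp_id]
  · simp only [pullback.map, Category.assoc]
    rw [pullback.lift_snd, ← Category.assoc, pullback.diagonal_snd, Category.id_comp, pullback.diagonal_snd,
      Category.comp_id]

theorem quasiSeparated_iff : QuasiSeparated f ↔ QuasiSeparated fP := by
  obtain ⟨_, _⟩ := facts (univHomeo_of_isPerfection p X hX)
  obtain ⟨_, _⟩ := facts (univHomeo_of_isPerfection p Y hY)
  constructor
  · intro _
    have : QuasiSeparated (fP ≫ πY) := by rw [w]; infer_instance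
    exact QuasiSeparated.of_comp fP πY
  · intro _
    have : QuasiSeparated (πX ≫ f) := by rw [← w]; infer_instance
    have h1 : QuasiCompact (pullback.map (πX ≫ f) (πX ≫ f) f f πX πX (𝟙 Y) (by simp) (by simp)) :=
      MorphismProperty.pullbackMap (P := @QuasiCompact) inferInstance inferInstance rfl rfl
    have h2 : QuasiCompact (pullback.diagonal (πX ≫ f)) := QuasiSeparated.quasiCompact_diagonal
    have : QuasiCompact (πX ≫ pullback.diagonal f) := by rw [← diag_comp]; infer_instance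
    exact ⟨quasiCompact_of_comp_surjective πX _⟩

theorem isSeparated_iff : IsSeparated f ↔ IsSeparated fP := by
  obtain ⟨_, _⟩ := facts (univHomeo_of_isPerfection p X hX)
  obtain ⟨_, _⟩ := facts (univHomeo_of_isPerfection p Y hY)
  constructor
  · intro _
    have : IsSeparated (fP ≫ πY) := by rw [w]; infer_instance
    exact IsSeparated.of_comp fP πY
  · intro _
    have : IsSeparated (πX ≫ f) := by rw [← w]; infer_instance
    have h1 : UniversallyClosed (pullback.map (πX ≫ f) (πX ≫ f) f f πX πX (𝟙 Y) (by simp) (by simp)) :=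
      MorphismProperty.pullbackMap (P := @UniversallyClosed) inferInstance inferInstance rfl rfl
    refine ⟨IsClosedImmersion.of_isPreimmersion _ ?_⟩
    have h2 : Set.range (πX ≫ pullback.diagonal f) = Set.range (pullback.diagonal f) := by
      rw [Scheme.Hom.comp_base, TopCat.coe_comp, Set.range_comp, πX.surjective.range_eq, Set.image_univ]
    rw [← h2, ← diag_comp, Scheme.Hom.comp_base, TopCat.coe_comp, Set.range_comp]
    exact (Scheme.Hom.isClosedMap _) _ (pullback.diagonal (πX ≫ f)).isClosedEmbedding.isClosed_range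

omit [FrobSch.IsCharP Y p] [FrobSch.IsCharP YP p] hY w in
theorem isPC_appTop_of_isAffine [IsAffine XP] : IsPC p πX.appTop.hom := by
  have hu := univHomeo_of_isPerfection p X hX
  obtain ⟨hint, hsurj⟩ := facts hu
  have hc : CompactSpace X := ⟨by
    have := isCompact_univ (X := XP) |>.image πX.continuous
    rwa [Set.image_univ, πX.surjective.range_eq] at this⟩
  have hterm : IsSeparated (πX ≫ terminal.from X) := by
    rw [terminal.hom_ext (πX ≫ terminal.from X) (terminal.from XP)]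
    infer_instance
  have hsep : IsSeparated (terminal.from X) := by
    have h1 : UniversallyClosed (pullback.map (πX ≫ terminal.from X) (πX ≫ terminal.from X)
        (terminal.from X) (terminal.from X) πX πX (𝟙 _) (by simp) (by simp)) :=
      MorphismProperty.pullbackMap (P := @UniversallyClosed) inferInstance inferInstance rfl rfl
    refine ⟨IsClosedImmersion.of_isPreimmersion _ ?_⟩
    have h2 : Set.range (πX ≫ pullback.diagonal (terminal.from X)) = Set.range (pullback.diagonal (terminal.from X)) := by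
      rw [Scheme.Hom.comp_base, TopCat.coe_comp, Set.range_comp, πX.surjective.range_eq, Set.image_univ]
    rw [← h2, ← diag_comp, Scheme.Hom.comp_base, TopCat.coe_comp, Set.range_comp]
    exact (Scheme.Hom.isClosedMap _) _ (pullback.diagonal (πX ≫ terminal.from X)).isClosedEmbedding.isClosed_range
  have hperf := bijective_pow hX.1 (⊤ : XP.Opens)
  let 𝒰 := X.affineCover.finiteSubcover
  let U : 𝒰.I₀ → X.Opens := fun i => (𝒰.f i).opensRange
  have hU : ∀ i, IsAffineOpen (U i) := fun i =>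
    have : IsAffine (𝒰.X i) := inferInstanceAs (IsAffine (Spec _))
    isAffineOpen_opensRange (𝒰.f i)
  have hUU : ∀ i j, IsAffineOpen (U i ⊓ U j) := fun i j => (hU i).inf (hU j)
  have hcov : (⊤ : X.Opens) ≤ iSup U := 𝒰.iSup_opensRange.ge
  have happ : ∀ (V : X.Opens) (a : Γ(X, ⊤)), πX.app V (X.presheaf.map (homOfLE (le_top : V ≤ ⊤)).op a) =
      XP.presheaf.map (homOfLE (le_top : πX ⁻¹ᵁ V ≤ ⊤)).op (πX.appTop a) := fun V a =>
    congr($(πX.naturality (homOfLE (le_top : V ≤ ⊤)).op) a)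
  refine ⟨hperf, fun s => ?_, fun a ha => ?_⟩
  · choose n a ha using fun i => (isPC_app hX.1 πX hu ⟨U i, hU i⟩).surj
      (XP.presheaf.map (homOfLE (le_top : πX ⁻¹ᵁ U i ≤ ⊤)).op s)
    let N := Finset.univ.sup n
    let b : ∀ i, Γ(X, U i) := fun i => a i ^ p ^ (N - n i)
    have hb : ∀ i, πX.app (U i) (b i) = XP.presheaf.map (homOfLE (le_top : πX ⁻¹ᵁ U i ≤ ⊤)).op (s ^ p ^ N) := fun i => by
      rw [map_pow, ha, map_pow, ← pow_mul, ← pow_add, Nat.add_sub_cancel' (Finset.le_sup (Finset.mem_univ i))]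
    have hM : ∀ i j, ∃ M : ℕ, (X.presheaf.map (homOfLE (inf_le_left : U i ⊓ U j ≤ U i)).op (b i) -
        X.presheaf.map (homOfLE (inf_le_right : U i ⊓ U j ≤ U j)).op (b j)) ^ p ^ M = 0 := by
      intro i j
      apply (isPC_app hX.1 πX hu ⟨U i ⊓ U j, hUU i j⟩).ker
      have h1 := congr($(πX.naturality (homOfLE (inf_le_left : U i ⊓ U j ≤ U i)).op) (b i))
      have h2 := congr($(πX.naturality (homOfLE (inf_le_right : U i ⊓ U j ≤ U j)).op) (b j))
      simp only [CommRingCat.comp_apply] at h1 h2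
      rw [map_sub, sub_eq_zero]
      refine h1.trans (Eq.trans ?_ h2.symm)
      rw [hb, hb, ← CommRingCat.comp_apply, ← CommRingCat.comp_apply, ← Functor.map_comp, ← Functor.map_comp]
      rfl
    choose M hM using hM
    let M₀ := Finset.univ.sup fun ij : 𝒰.I₀ × 𝒰.I₀ => M ij.1 ij.2
    obtain ⟨c, hc', -⟩ := X.sheaf.existsUnique_gluing' U ⊤ (fun i => homOfLE le_top) hcov (fun i => b i ^ p ^ M₀) (by
      intro i j
      change X.presheaf.map (homOfLE (inf_le_left : U i ⊓ U j ≤ U i)).op (b i ^ p ^ M₀) =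
        X.presheaf.map (homOfLE (inf_le_right : U i ⊓ U j ≤ U j)).op (b j ^ p ^ M₀)
      refine (map_pow _ _ _).trans (Eq.trans ?_ (map_pow _ _ _).symm)
      rw [← sub_eq_zero, ← charP_pow_sub (FrobSch.natCast_eq_zero_app X p _)]
      change _ ^ p ^ (Finset.univ.sup fun ij : 𝒰.I₀ × 𝒰.I₀ => M ij.1 ij.2) = 0
      rw [← Nat.add_sub_cancel' (Finset.le_sup (f := fun ij : 𝒰.I₀ × 𝒰.I₀ => M ij.1 ij.2) (Finset.mem_univ (i, j)) : M i j ≤ M₀),
        pow_add, pow_mul, hM, zero_pow (pow_ne_zero _ (Fact.out : p.Prime).ne_zero)])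
    refine ⟨N + M₀, c, XP.sheaf.eq_of_locally_eq' (fun i => πX ⁻¹ᵁ U i) ⊤ (fun i => homOfLE le_top)
      (fun x _ => ?_) _ _ fun i => ?_⟩
    · obtain ⟨i, hi⟩ := TopologicalSpace.Opens.mem_iSup.mp (hcov (show πX x ∈ (⊤ : X.Opens) from trivial))
      exact TopologicalSpace.Opens.mem_iSup.mpr ⟨i, hi⟩
    · refine (happ (U i) c).symm.trans ?_
      rw [show X.presheaf.map (homOfLE (le_top : U i ≤ ⊤)).op c = b i ^ p ^ M₀ from hc' i, map_pow, hb, ← map_pow,
        ← pow_mul, ← pow_add]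
      rfl
  · have hn : ∀ i, ∃ n : ℕ, X.presheaf.map (homOfLE (le_top : U i ≤ ⊤)).op a ^ p ^ n = 0 := fun i => by
      apply (isPC_app hX.1 πX hu ⟨U i, hU i⟩).ker
      refine (happ (U i) a).trans ?_
      rw [show πX.appTop a = 0 from ha, map_zero]
    choose n hn using hn
    refine ⟨Finset.univ.sup n, X.sheaf.eq_of_locally_eq' U ⊤ (fun i => homOfLE le_top) hcov _ _ fun i => ?_⟩
    refine (map_pow _ _ _).trans (Eq.trans ?_ (map_zero _).symm)
    change (X.presheaf.map (homOfLE (le_top : U i ≤ ⊤)).op a) ^ p ^ _ = 0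
    rw [← Nat.add_sub_cancel' (Finset.le_sup (Finset.mem_univ i) : n i ≤ Finset.univ.sup n), pow_add, pow_mul, hn,
      zero_pow (pow_ne_zero _ (Fact.out : p.Prime).ne_zero)]

omit [FrobSch.IsCharP Y p] [FrobSch.IsCharP YP p] hY w in
theorem isAffine_of_isAffine [IsAffine XP] : IsAffine X := by
  have hpc := isPC_appTop_of_isAffine hX
  obtain ⟨hint, hsurj⟩ := facts (univHomeo_of_isPerfection p X hX)
  let S : Set Γ(X, ⊤) := {a | IsAffineOpen (X.basicOpen a)}
  refine isAffine_of_isAffineOpen_basicOpen S ?_ fun a ha => ha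
  by_contra hne
  obtain ⟨m, hm, hle⟩ := Ideal.exists_le_maximal _ hne
  have := hm.isPrime
  obtain ⟨-, hc, -⟩ := (AWNLib.univHomeo_iff _).1 hpc.univHomeo
  obtain ⟨Q, hQ⟩ := hc ⟨m, this⟩
  let y : XP := XP.isoSpec.inv Q
  obtain ⟨U, hU, hxU, -⟩ := TopologicalSpace.Opens.isBasis_iff_nbhd.mp X.isBasis_affineOpens
    (show πX y ∈ (⊤ : X.Opens) from trivial)
  obtain ⟨s, hsU, hys⟩ := (isAffineOpen_top XP).exists_basicOpen_le (V := πX ⁻¹ᵁ U) ⟨y, hxU⟩ trivial
  obtain ⟨n, a, ha⟩ := hpc.surj s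
  have hba : πX ⁻¹ᵁ X.basicOpen a = XP.basicOpen s := by
    rw [Scheme.preimage_basicOpen]
    refine (congrArg XP.basicOpen ha).trans ?_
    exact Scheme.basicOpen_pow _ _ (pow_pos (Fact.out : p.Prime).pos n)
  have haU : X.basicOpen a ≤ U := fun z hz => by
    obtain ⟨z', rfl⟩ := πX.surjective z
    exact hsU (hba.le hz)
  have haS : a ∈ S := by
    change IsAffineOpen (X.basicOpen a)
    have h1 : X.basicOpen a = X.basicOpen (X.presheaf.map (homOfLE (le_top : U ≤ ⊤)).op a) := by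
      rw [Scheme.basicOpen_res, inf_eq_right.mpr haU]
    rw [h1]
    exact hU.basicOpen _
  have h2 : πX.appTop a ∈ Q.asIdeal := by
    change a ∈ Ideal.comap πX.appTop.hom Q.asIdeal
    rw [show Ideal.comap πX.appTop.hom Q.asIdeal = m from congrArg PrimeSpectrum.asIdeal hQ]
    exact hle (Ideal.subset_span haS)
  have h3 : y ∈ XP.basicOpen (πX.appTop a) := by
    rw [ha]
    exact (Scheme.basicOpen_pow _ _ (pow_pos (Fact.out : p.Prime).pos n)).ge hys
  rw [← Scheme.toSpecΓ_preimage_basicOpen] at h3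
  have h4 : XP.toSpecΓ y = Q := by
    change (XP.isoSpec.inv ≫ XP.isoSpec.hom) Q = Q
    rw [Iso.inv_hom_id]
    rfl
  have h5 : XP.toSpecΓ y ∈ PrimeSpectrum.basicOpen (πX.appTop a) := h3
  rw [h4] at h5
  exact h5 h2

omit hX hY w [FrobSch.IsCharP Y p] [FrobSch.IsCharP YP p] in
theorem isPerfection_restrict (hX : FrobSch.IsPerfection πX p) (U : X.Opens)
    [FrobSch.IsCharP (U : Scheme.{u}) p] [FrobSch.IsCharP (πX ⁻¹ᵁ U : Scheme.{u}) p] :
    FrobSch.IsPerfection (πX ∣_ U) p := by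
  refine isPerfection_of_univHomeo (isPerfect_of_isOpenImmersion (πX ⁻¹ᵁ U).ι hX.1) _ ?_
  have : MorphismProperty.IsStableUnderBaseChange FlatMor.IsUnivHomeo.{u} :=
    MorphismProperty.universally_isStableUnderBaseChange _
  exact MorphismProperty.of_isPullback (isPullback_morphismRestrict πX U).flip (univHomeo_of_isPerfection p X hX)

theorem isAffineHom_iff : IsAffineHom f ↔ IsAffineHom fP := by
  obtain ⟨_, _⟩ := facts (univHomeo_of_isPerfection p X hX)
  obtain ⟨_, _⟩ := facts (univHomeo_of_isPerfection p Y hY)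
  constructor
  · intro _
    have : IsAffineHom (fP ≫ πY) := by rw [w]; infer_instance
    exact IsAffineHom.of_comp fP πY
  · intro _
    have : IsAffineHom (πX ≫ f) := by rw [← w]; infer_instance
    refine ⟨fun U hU => ?_⟩
    have h1 : IsAffineOpen (πX ⁻¹ᵁ f ⁻¹ᵁ U) := hU.preimage (πX ≫ f)
    have : IsAffine (πX ⁻¹ᵁ f ⁻¹ᵁ U : Scheme.{u}) := h1
    have i1 : FrobSch.IsCharP (f ⁻¹ᵁ U : Scheme.{u}) p := FrobSch.IsCharP.of_hom (f ⁻¹ᵁ U).ι p
    have i2 : FrobSch.IsCharP (πX ⁻¹ᵁ f ⁻¹ᵁ U : Scheme.{u}) p := FrobSch.IsCharP.of_hom (πX ⁻¹ᵁ f ⁻¹ᵁ U).ι p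
    exact isAffine_of_isAffine (isPerfection_restrict hX (f ⁻¹ᵁ U))

theorem isPullback_of_etale [Etale f] : IsPullback fP πX πY f := by
  have hu := univHomeo_of_isPerfection p X hX
  have hv := univHomeo_of_isPerfection p Y hY
  have : MorphismProperty.IsStableUnderBaseChange FlatMor.IsUnivHomeo.{u} :=
    MorphismProperty.universally_isStableUnderBaseChange _
  have i : FrobSch.IsCharP (pullback πY f) p := FrobSch.IsCharP.of_hom (pullback.fst πY f) p
  have hP : FrobSch.IsPerfect (pullback πY f) p := isPerfect_of_etale (pullback.fst πY f) hY.1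
  have : IsIso (pullback.lift fP πX w) := isIso_of_univHomeo' _ hP hX.1
    ((Groth.Agent.S0416.result (pullback.lift fP πX w) (pullback.snd πY f)).2
      (by rw [pullback.lift_snd]; exact hu) (MorphismProperty.pullback_snd _ _ hv))
  exact IsPullback.of_iso_pullback ⟨w⟩ (asIso (pullback.lift fP πX w)) (pullback.lift_fst _ _ _) (pullback.lift_snd _ _ _)

theorem isOpenImmersion_perf [IsOpenImmersion f] : IsOpenImmersion fP :=
  MorphismProperty.of_isPullback (P := @IsOpenImmersion) (isPullback_of_etale hX hY w).flip inferInstance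

omit [FrobSch.IsCharP Y p] [FrobSch.IsCharP YP p] hY w in
theorem stalk_surj (x : XP) (t : XP.presheaf.stalk x) :
    ∃ (n : ℕ) (a : X.presheaf.stalk (πX x)), πX.stalkMap x a = t ^ p ^ n := by
  have hu := univHomeo_of_isPerfection p X hX
  obtain ⟨V, hxV, s, rfl⟩ := TopCat.Presheaf.exists_germ_eq XP.presheaf t
  obtain ⟨W, hW, hWV⟩ : ∃ W : Set X, IsOpen W ∧ πX ⁻¹' W = V := by
    have hh : Topology.IsInducing πX := by
      obtain ⟨h1, h2, h3⟩ := (Groth.Agent.S0415.result πX).1 hu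
      exact ((Equiv.ofBijective πX ⟨πX.injective, h3.surj⟩).toHomeomorphOfContinuousClosed πX.continuous
        πX.isClosedMap).isInducing
    exact hh.isOpen_iff.mp V.2
  obtain ⟨U, hU, hxU, hUW⟩ := TopologicalSpace.Opens.isBasis_iff_nbhd.mp X.isBasis_affineOpens
    (show πX x ∈ (⟨W, hW⟩ : X.Opens) from by change x ∈ πX ⁻¹' W; rw [hWV]; exact hxV)
  have hle : πX ⁻¹ᵁ U ≤ V := fun z hz => hWV.le (hUW hz)
  obtain ⟨n, a, ha⟩ := (isPC_app hX.1 πX hu ⟨U, hU⟩).surj (XP.presheaf.map (homOfLE hle).op s)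
  refine ⟨n, X.presheaf.germ U (πX x) hxU a, ?_⟩
  rw [Scheme.Hom.germ_stalkMap_apply, ha, map_pow, TopCat.Presheaf.germ_res_apply]

omit [FrobSch.IsCharP Y p] [FrobSch.IsCharP YP p] hY w hX in
theorem isPerfRing_stalk {Z : Scheme.{u}} [FrobSch.IsCharP Z p] (hZ : FrobSch.IsPerfect Z p) (z : Z) :
    IsPerfRing p (Z.presheaf.stalk z) := by
  have := isReduced_of_isPerfect hZ
  have hp : (p : Z.presheaf.stalk z) = 0 := by
    rw [← map_natCast (Z.presheaf.germ ⊤ z trivial).hom, FrobSch.natCast_eq_zero_app Z p ⊤, map_zero]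
  refine ⟨hp, fun a b hab => ?_, fun t => ?_⟩
  · refine sub_eq_zero.1 (IsReduced.eq_zero _ ⟨p ^ 1, ?_⟩)
    rw [charP_pow_sub hp, pow_one, sub_eq_zero]
    exact hab
  · obtain ⟨V, hzV, s, rfl⟩ := TopCat.Presheaf.exists_germ_eq Z.presheaf t
    obtain ⟨r, hr⟩ := (bijective_pow hZ V).2.2 s
    exact ⟨Z.presheaf.germ V z hzV r, by rw [← hr]; exact (map_pow _ _ _).symm⟩

theorem isClosedImmersion_perf [IsClosedImmersion f] : IsClosedImmersion fP := by
  have hu := univHomeo_of_isPerfection p X hX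
  have hv := univHomeo_of_isPerfection p Y hY
  have hemb : Topology.IsClosedEmbedding fP := by
    have : IsAffineHom fP := (isAffineHom_iff hX hY w).1 inferInstance
    have hinj : Function.Injective fP := fun a b hab => by
      have h1 : πX a = πX b := f.isClosedEmbedding.injective (by
        rw [← Scheme.Hom.comp_apply, ← Scheme.Hom.comp_apply, ← w, Scheme.Hom.comp_apply, Scheme.Hom.comp_apply, hab])
      have := ((Groth.Agent.S0415.result πX).1 hu).2.1
      exact πX.injective h1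
    have : UniversallyClosed fP := (universallyClosed_iff hX hY w).1 inferInstance
    exact Topology.IsClosedEmbedding.of_continuous_injective_isClosedMap fP.continuous hinj fP.isClosedMap
  refine (isClosedImmersion_iff fP).2 ⟨?_, hemb⟩
  refine ⟨fun x t => ?_⟩
  obtain ⟨n, a, ha⟩ := stalk_surj hX x t
  obtain ⟨b, rfl⟩ := f.stalkMap_surjective (πX x) a
  have h1 : (πX ≫ f).stalkMap x b = t ^ p ^ n := by
    rw [Scheme.Hom.stalkMap_comp]
    exact ha
  have h2 : ∃ c', (fP ≫ πY).stalkMap x c' = t ^ p ^ n := exists_stalkMap_congr w.symm x _ ⟨b, h1⟩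
  obtain ⟨c', hc'⟩ := h2
  rw [Scheme.Hom.stalkMap_comp] at hc'
  obtain ⟨r, hr⟩ := ((isPerfRing_stalk hY.1 (fP x)).pow_bij n).2 (πY.stalkMap (fP x) c')
  refine ⟨r, ((isPerfRing_stalk hX.1 x).pow_bij n).1 ?_⟩
  change fP.stalkMap x r ^ p ^ n = t ^ p ^ n
  rw [← map_pow, show r ^ p ^ n = _ from hr]
  exact hc'

theorem flat_perf [Flat f] : Flat fP := by
  have hu := univHomeo_of_isPerfection p X hX
  have hv := univHomeo_of_isPerfection p Y hY
  have := isAffineHom_of_univHomeo hu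
  have := isAffineHom_of_univHomeo hv
  have hJ : ∀ x : XP, ∃ (W : X.affineOpens) (U : Y.affineOpens), πX x ∈ W.1 ∧ W.1 ≤ f ⁻¹ᵁ U.1 := by
    intro x
    obtain ⟨U, hU, hxU, -⟩ := TopologicalSpace.Opens.isBasis_iff_nbhd.mp Y.isBasis_affineOpens
      (show f (πX x) ∈ (⊤ : Y.Opens) from trivial)
    obtain ⟨W, hW, hxW, hWU⟩ := TopologicalSpace.Opens.isBasis_iff_nbhd.mp X.isBasis_affineOpens
      (show πX x ∈ f ⁻¹ᵁ U from hxU)
    exact ⟨⟨W, hW⟩, ⟨U, hU⟩, hxW, hWU⟩
  choose W U hxW hWU using hJ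
  refine (IsZariskiLocalAtSource.iff_of_iSup_eq_top (P := @Flat) (fun x => πX ⁻¹ᵁ (W x).1)
    (eq_top_iff.mpr fun x _ => TopologicalSpace.Opens.mem_iSup.mpr ⟨x, hxW x⟩)).mpr fun x => ?_
  have hV : IsAffineOpen (πX ⁻¹ᵁ (W x).1) := (W x).2.preimage πX
  have hV' : IsAffineOpen (πY ⁻¹ᵁ (U x).1) := (U x).2.preimage πY
  have e : πX ⁻¹ᵁ (W x).1 ≤ fP ⁻¹ᵁ (πY ⁻¹ᵁ (U x).1) := by
    rw [← Scheme.Hom.comp_preimage, w, Scheme.Hom.comp_preimage]
    exact πX.preimage_mono (hWU x)
  have hflat : Flat (Spec.map (fP.appLE _ _ e)) := by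
    rw [HasRingHomProperty.Spec_iff (P := @Flat)]
    refine flat_of_isPC (isPC_app hY.1 πY hv (U x)) (isPC_app hX.1 πX hu (W x))
      (FrobSch.natCast_eq_zero_app X p _) (Flat.flat_of_affine_subset f (U x).2 (W x).2 (hWU x)) ?_
    have key : ∀ {g g' : XP ⟶ Y} (_ : g = g') (e₁) (e₂),
        g.appLE (U x).1 (πX ⁻¹ᵁ (W x).1) e₁ = g'.appLE (U x).1 (πX ⁻¹ᵁ (W x).1) e₂ := by
      rintro g g' rfl e₁ e₂; rfl
    rw [← CommRingCat.hom_comp, ← CommRingCat.hom_comp, Scheme.Hom.app_eq_appLE, Scheme.Hom.app_eq_appLE,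
      Scheme.Hom.appLE_comp_appLE, Scheme.Hom.appLE_comp_appLE]
    exact congrArg CommRingCat.Hom.hom (key w _ _)
  have he : (πX ⁻¹ᵁ (W x).1).ι ≫ fP = hV.isoSpec.hom ≫ Spec.map (fP.appLE _ _ e) ≫ hV'.fromSpec := by
    rw [IsAffineOpen.SpecMap_appLE_fromSpec fP hV' hV e, IsAffineOpen.isoSpec_hom_fromSpec_assoc]
  rw [he]
  infer_instance

end Groth.Agent.PerfectionLib
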